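import Mathlib

/-!
# Unique factorisation of ideals implies Dedekind
-/

universe u

open scoped nonZeroDivisors

namespace Groth.Agent.CAlgDedekindUF

variable {R : Type u} [CommRing R] [IsDomain R]

/-- An ideal is invertible. -/
def Inv' (I : Ideal R) : Prop := IsUnit (I : FractionalIdeal R⁰ (FractionRing R))

lemma inv_ne_bot {I : Ideal R} (h : Inv' I) : I ≠ ⊥ := fun e => by
  rw [Inv', e, FractionalIdeal.coeIdeal_bot] at h
  exact not_isUnit_zero h

lemma inv_span_singleton {a : R} (ha : a ≠ 0) : Inv' (Ideal.span {a}) := by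
  rw [Inv', FractionalIdeal.coeIdeal_span_singleton]
  refine IsUnit.of_mul_eq_one (FractionalIdeal.spanSingleton R⁰ (algebraMap R (FractionRing R) a)⁻¹) ?_
  rw [FractionalIdeal.spanSingleton_mul_spanSingleton, mul_inv_cancel₀
    ((map_ne_zero_iff _ (IsFractionRing.injective R _)).2 ha), FractionalIdeal.spanSingleton_one]

lemma inv_mul {I J : Ideal R} : Inv' (I * J) ↔ Inv' I ∧ Inv' J := by
  rw [Inv', FractionalIdeal.coeIdeal_mul, IsUnit.mul_iff]
  rfl

lemma inv_of_mem_prod {s : Multiset (Ideal R)} (h : Inv' s.prod) {I : Ideal R} (hI : I ∈ s) : Inv' I := by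
  obtain ⟨t, rfl⟩ := Multiset.exists_cons_of_mem hI
  rw [Multiset.prod_cons] at h
  exact (inv_mul.1 h).1

lemma inv_cancel {I J J' : Ideal R} (hI : Inv' I) (h : I * J = I * J') : J = J' := by
  apply FractionalIdeal.coeIdeal_injective (K := FractionRing R)
  have h' := congrArg (fun I : Ideal R => (I : FractionalIdeal R⁰ (FractionRing R))) h
  simp only [FractionalIdeal.coeIdeal_mul] at h'
  exact hI.mul_left_cancel h'

/-- Factorisations into invertible primes are unique. -/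
lemma unique_prime_factorization : ∀ (n : ℕ) (s t : Multiset (Ideal R)), s.card = n →
    (∀ P ∈ s, P.IsPrime) → (∀ P ∈ t, P.IsPrime) → (Inv' s.prod) → s.prod = t.prod → s = t := by
  intro n
  induction n with
  | zero =>
    intro s t hs _ ht _ he
    rw [Multiset.card_eq_zero.1 hs, Multiset.prod_zero] at he
    rw [Multiset.card_eq_zero.1 hs]
    refine (Multiset.eq_zero_of_forall_notMem fun P hP => (ht P hP).ne_top ?_).symm
    exact top_le_iff.1 (Ideal.one_eq_top (R := R) ▸ he ▸ Ideal.le_of_dvd (Multiset.dvd_prod hP))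
  | succ n ih =>
    intro s t hs hps hpt hinv he
    classical
    have hne : s.toFinset.Nonempty := by
      rw [Multiset.toFinset_nonempty, ← Multiset.card_pos]; omega
    obtain ⟨P, hPmem, hPmin⟩ := s.toFinset.exists_minimal hne
    rw [Multiset.mem_toFinset] at hPmem
    have hle : t.prod ≤ P := he ▸ Ideal.le_of_dvd (Multiset.dvd_prod hPmem)
    obtain ⟨Q, hQ, hQP⟩ := (hps P hPmem).multiset_prod_le.1 hle
    have hleQ : s.prod ≤ Q := he ▸ Ideal.le_of_dvd (Multiset.dvd_prod hQ)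
    obtain ⟨P', hP', hPQ⟩ := (hpt Q hQ).multiset_prod_le.1 hleQ
    have hP'P : P ≤ P' := hPmin (Multiset.mem_toFinset.2 hP') (hPQ.trans hQP)
    have hQe : Q = P := le_antisymm hQP (hP'P.trans hPQ)
    subst hQe
    obtain ⟨s', rfl⟩ := Multiset.exists_cons_of_mem hPmem
    obtain ⟨t', rfl⟩ := Multiset.exists_cons_of_mem hQ
    rw [Multiset.prod_cons, Multiset.prod_cons] at he
    rw [Multiset.prod_cons] at hinv
    rw [Multiset.card_cons] at hs
    rw [ih s' t' (by omega) (fun I hI => hps I (Multiset.mem_cons_of_mem hI))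
      (fun I hI => hpt I (Multiset.mem_cons_of_mem hI)) (inv_mul.1 hinv).2 (inv_cancel (inv_mul.1 hinv).1 he)]

variable (h : ∀ I : Ideal R, I ≠ ⊥ → ∃! s : Multiset (Ideal R), (∀ p ∈ s, p.IsPrime ∧ p ≠ ⊥) ∧ s.prod = I)

include h in
/-- An invertible prime is maximal. -/
lemma isMaximal_of_inv {P : Ideal R} (hP : P.IsPrime) (hPi : Inv' P) : P.IsMaximal := by
  classical
  refine Ideal.isMaximal_iff.2 ⟨fun h1 => hP.ne_top ((Ideal.eq_top_iff_one _).2 h1), fun J a hPJ haP haJ => ?_⟩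
  suffices htop : P ⊔ Ideal.span {a} = ⊤ from
    (Ideal.eq_top_iff_one J).1 (top_le_iff.1 (htop ▸ sup_le hPJ ((Ideal.span_singleton_le_iff_mem _).2 haJ)))
  have hne : ∀ b : R, P ⊔ Ideal.span {b} ≠ ⊥ := fun b e => inv_ne_bot hPi (le_bot_iff.1 (e ▸ le_sup_left))
  obtain ⟨s, ⟨hs, hsp⟩, -⟩ := h _ (hne a)
  obtain ⟨t, ⟨ht, htp⟩, -⟩ := h _ (hne (a ^ 2))
  let f : Ideal R → Ideal (R ⧸ P) := Ideal.map (Ideal.Quotient.mk P)
  let a' := Ideal.Quotient.mk P a
  have ha' : a' ≠ 0 := fun e => haP (Ideal.Quotient.eq_zero_iff_mem.1 e)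
  have hmap : ∀ b : R, f (P ⊔ Ideal.span {b}) = Ideal.span {Ideal.Quotient.mk P b} := fun b => by
    simp only [f, Ideal.map_sup, Ideal.map_quotient_self, bot_sup_eq, Ideal.map_span, Set.image_singleton]
  have hle : ∀ (b : R) (u : Multiset (Ideal R)), u.prod = P ⊔ Ideal.span {b} → ∀ Q ∈ u, P ≤ Q :=
    fun b u hu Q hQ => le_sup_left.trans (hu ▸ Ideal.le_of_dvd (Multiset.dvd_prod hQ))
  have hf : ∀ u : Multiset (Ideal R), f u.prod = (u.map f).prod := fun u =>
    map_multiset_prod (Ideal.mapHom (Ideal.Quotient.mk P)) u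
  have hprime : ∀ (b : R) (u : Multiset (Ideal R)), u.prod = P ⊔ Ideal.span {b} →
      (∀ Q ∈ u, Q.IsPrime ∧ Q ≠ ⊥) → ∀ Q ∈ u.map f, Q.IsPrime := by
    intro b u hu hup Q hQ
    obtain ⟨Q, hQ', rfl⟩ := Multiset.mem_map.1 hQ
    haveI := (hup Q hQ').1
    exact Ideal.map_isPrime_of_surjective Ideal.Quotient.mk_surjective
      (by rw [Ideal.mk_ker]; exact hle b u hu Q hQ')
  have hcomap : ∀ (b : R) (u : Multiset (Ideal R)), u.prod = P ⊔ Ideal.span {b} →
      (u.map f).map (Ideal.comap (Ideal.Quotient.mk P)) = u := by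
    intro b u hu
    rw [Multiset.map_map]
    conv_rhs => rw [← Multiset.map_id u]
    refine Multiset.map_congr rfl fun Q hQ => ?_
    show Ideal.comap _ (Ideal.map _ Q) = Q
    rw [Ideal.comap_map_of_surjective _ Ideal.Quotient.mk_surjective, ← RingHom.ker_eq_comap_bot,
      Ideal.mk_ker, sup_eq_left.2 (hle b u hu Q hQ)]
  have hfs : (s.map f).prod = Ideal.span {a'} := by rw [← hf, hsp, hmap]
  have hft : (t.map f).prod = Ideal.span {a' ^ 2} := by rw [← hf, htp, hmap, map_pow]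
  have heq : (t.map f) = s.map f + s.map f := by
    refine unique_prime_factorization _ _ _ rfl (hprime _ _ htp ht) (fun Q hQ => ?_) ?_ ?_
    · rcases Multiset.mem_add.1 hQ with hQ | hQ <;> exact hprime _ _ hsp hs Q hQ
    · rw [hft]; exact inv_span_singleton (pow_ne_zero _ ha')
    · rw [hft, Multiset.prod_add, hfs, Ideal.span_singleton_mul_span_singleton, sq]
  have ht2 : t = s + s := by
    have := congrArg (Multiset.map (Ideal.comap (Ideal.Quotient.mk P))) heq
    rwa [hcomap _ _ htp, Multiset.map_add, hcomap _ _ hsp] at this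
  have key : P ⊔ Ideal.span {a ^ 2} = (P ⊔ Ideal.span {a}) * (P ⊔ Ideal.span {a}) := by
    rw [← htp, ht2, Multiset.prod_add, hsp]
  have hP2 : P ≤ P * (P ⊔ Ideal.span {a}) := by
    intro x hx
    have h1 : x ∈ (P ⊔ Ideal.span {a}) * (P ⊔ Ideal.span {a}) := key ▸ Ideal.mem_sup_left hx
    rw [Ideal.sup_mul, Ideal.mul_sup] at h1
    have h2 : x ∈ (P * P) ⊔ Ideal.span {a} :=
      (sup_le (sup_le_sup_left Ideal.mul_le_right _) (le_sup_of_le_right Ideal.mul_le_left) :
        P * P ⊔ P * Ideal.span {a} ⊔ Ideal.span {a} * (P ⊔ Ideal.span {a}) ≤ _) h1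
    obtain ⟨y, hy, w, hw, rfl⟩ := Submodule.mem_sup.1 h2
    obtain ⟨z, rfl⟩ := Ideal.mem_span_singleton'.1 hw
    have hz : z ∈ P := by
      have : z * a ∈ P := by
        have h3 := P.sub_mem hx (Ideal.mul_le_left hy : y ∈ P)
        rwa [add_sub_cancel_left] at h3
      exact (hP.mem_or_mem this).resolve_right haP
    rw [Ideal.mul_sup]
    exact Submodule.mem_sup.2 ⟨y, hy, z * a, Ideal.mul_mem_mul hz (Ideal.mem_span_singleton_self a), rfl⟩
  refine inv_cancel hPi ?_
  rw [Ideal.mul_top]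
  exact le_antisymm Ideal.mul_le_left hP2

include h in
theorem isDedekindDomain : IsDedekindDomain R := by
  have hprime : ∀ P : Ideal R, P.IsPrime → P ≠ ⊥ → Inv' P ∧ P.IsMaximal := by
    intro P hP hP0
    obtain ⟨a, haP, ha⟩ := Submodule.exists_mem_ne_zero_of_ne_bot hP0
    obtain ⟨s, ⟨hs, hsp⟩, -⟩ := h (Ideal.span {a}) (by simpa using ha)
    obtain ⟨Q, hQ, hQP⟩ := hP.multiset_prod_le.1 (hsp ▸ (Ideal.span_singleton_le_iff_mem _).2 haP)
    have hQi : Inv' Q := inv_of_mem_prod (hsp ▸ inv_span_singleton ha) hQ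
    have hQm := isMaximal_of_inv h (hs Q hQ).1 hQi
    have := hQm.eq_of_le hP.ne_top hQP
    exact this ▸ ⟨hQi, hQm⟩
  rw [isDedekindDomain_iff_mul_inv_cancel (K := FractionRing R)]
  intro I hI
  rw [FractionalIdeal.mul_inv_cancel_iff_isUnit]
  obtain ⟨a, J, ha, rfl⟩ := FractionalIdeal.exists_eq_spanSingleton_mul I
  have hJ0 : J ≠ ⊥ := by
    rintro rfl
    exact hI (by simp)
  refine IsUnit.mul ?_ ?_
  · refine IsUnit.of_mul_eq_one (FractionalIdeal.spanSingleton R⁰ (algebraMap R (FractionRing R) a)) ?_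
    rw [FractionalIdeal.spanSingleton_mul_spanSingleton, inv_mul_cancel₀
      ((map_ne_zero_iff _ (IsFractionRing.injective R _)).2 ha), FractionalIdeal.spanSingleton_one]
  · obtain ⟨s, ⟨hs, rfl⟩, -⟩ := h J hJ0
    suffices ∀ u : Multiset (Ideal R), (∀ P ∈ u, Inv' P) → Inv' u.prod from
      this s fun P hP => (hprime P (hs P hP).1 (hs P hP).2).1
    intro u hu
    induction u using Multiset.induction_on with
    | empty =>
      rw [Multiset.prod_zero, Ideal.one_eq_top, Inv', FractionalIdeal.coeIdeal_top]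
      exact isUnit_one
    | cons P u ih =>
      rw [Multiset.prod_cons]
      exact inv_mul.2 ⟨hu P (Multiset.mem_cons_self P u), ih fun Q hQ => hu Q (Multiset.mem_cons_of_mem hQ)⟩

end Groth.Agent.CAlgDedekindUF
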